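import Groth.Agent.Lib.Descend.EtaleGlobal
import Groth.Agent.Lib.FlatH4.NoethApprox
import Groth.Agent.Lib.FlatH4.FlatDescent

/-!
# Descent of flatness of finitely presented morphisms along limits (EGA IV 11.2.6)
-/

universe u

set_option backward.isDefEq.respectTransparency false
set_option backward.defeqAttrib.useBackward true
set_option linter.style.haveILetI false

open CategoryTheory CategoryTheory.Limits AlgebraicGeometry TensorProduct

namespace Groth.Agent.Descend19

open Groth.Agent.Descend

/-- Flat models of flat algebras of finite presentation, over finitely generated rings. -/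
theorem exists_subalgebra_flat_model (A B : Type u) [CommRing A] [CommRing B] [Algebra A B]
    [Algebra.FinitePresentation A B] [Module.Flat A B] :
    ∃ (A₀ : Subalgebra ℤ A) (B₀ : Type u) (_ : CommRing B₀) (_ : Algebra A₀ B₀),
      A₀.FG ∧ Algebra.FinitePresentation A₀ B₀ ∧ Module.Flat A₀ B₀ ∧
        Nonempty (B ≃ₐ[A] A ⊗[A₀] B₀) := by
  obtain ⟨R, B₁, _, _, _, _, hR, hB, ⟨e⟩⟩ := FlatH4.exists_approx A B
  haveI : IsNoetherianRing R := Algebra.FiniteType.isNoetherianRing ℤ R
  haveI : Algebra.FiniteType R B₁ := inferInstance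
  haveI : Module.Flat A (A ⊗[R] B₁) := Module.Flat.of_linearEquiv e.toLinearEquiv
  obtain ⟨C, hC, hflat⟩ := FlatH4.exists_subalgebra_flat R A B₁ B₁
  have hCflat := hflat C le_rfl hC
  refine ⟨C.restrictScalars ℤ, C ⊗[R] B₁, inferInstance,
    (inferInstance : Algebra C (C ⊗[R] B₁)), ?_, ?_, hCflat, ⟨?_⟩⟩
  · haveI : Algebra.FiniteType R C := (Subalgebra.fg_iff_finiteType C).1 hC
    exact (Subalgebra.fg_iff_finiteType _).2 (Algebra.FiniteType.trans (R := ℤ) (S := R) (A := C) inferInstance inferInstance)
  · exact (inferInstance : Algebra.FinitePresentation C (C ⊗[R] B₁))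
  · exact e.symm.trans
      (Algebra.TensorProduct.cancelBaseChange R C A A B₁).symm

variable {I : Type u} [SmallCategory I] [IsCofiltered I] {S X : Scheme.{u}} {D : I ⥤ Scheme.{u}}
  {t : D ⟶ (Functor.const I).obj S} {f : X ⟶ S} {c : Cone D} {q : c.pt ⟶ S}
  {P : Scheme.{u}} {p : P ⟶ X} {g : P ⟶ c.pt}
  [∀ i, IsAffineHom (t.app i)]

/-- The comparison with an affine model: flat. -/
theorem exists_flat_of_isAffine [IsAffine S] [IsAffine X] (hc : IsLimit c)
    [LocallyOfFinitePresentation f] (hq : ∀ j, c.π.app j ≫ t.app j = q) (hP : IsPullback p g f q)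
    [Flat g] : ∃ j, Flat (pullback.snd f (t.app j)) := by
  haveI hD : ∀ k, IsAffine (D.obj k) := fun k => by
    haveI : IsAffine (((Functor.const I).obj S).obj k) := ‹IsAffine S›
    exact isAffine_of_isAffineHom (t.app k)
  haveI : IsAffine c.pt := Scheme.isAffine_of_isLimit _ hc
  haveI : IsAffine P := IsAffine.of_isPullback hP
  haveI : LocallyOfFinitePresentation g := MorphismProperty.of_isPullback hP inferInstance
  have hg : g.appTop.hom.Flat := (HasRingHomProperty.iff_of_isAffine (P := @Flat)).1 inferInstance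
  have hg' : g.appTop.hom.FinitePresentation :=
    (HasRingHomProperty.iff_of_isAffine (P := @LocallyOfFinitePresentation)).1 inferInstance
  algebraize [g.appTop.hom]
  obtain ⟨A₀, B₀, _, _, hfg, hfp, hfl, ⟨e⟩⟩ := exists_subalgebra_flat_model Γ(c.pt, ⊤) Γ(P, ⊤)
  let b : Spec (CommRingCat.of A₀) ⟶ Spec (CommRingCat.of (ULift.{u} ℤ)) :=
    specULiftZIsTerminal.from _
  haveI : LocallyOfFinitePresentation b := locallyOfFinitePresentation_int A₀ hfg
  let m : Spec (CommRingCat.of B₀) ⟶ Spec (CommRingCat.of A₀) :=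
    Spec.map (CommRingCat.ofHom (algebraMap A₀ B₀))
  haveI hm : Flat m := Flat.SpecMap_iff.2 (RingHom.flat_algebraMap_iff.2 hfl)
  haveI : LocallyOfFinitePresentation m :=
    (HasRingHomProperty.Spec_iff (P := @LocallyOfFinitePresentation)).2
      (RingHom.finitePresentation_algebraMap.2 hfp)
  obtain ⟨p₀, hM⟩ := exists_isPullback_model g A₀ B₀ e
  exact exists_of_model @Flat hc hq hP specULiftZIsTerminal b m hm _ hM

/-- Flatness descends, for quasi-compact source. -/
theorem exists_flat (hc : IsLimit c) [LocallyOfFinitePresentation f] [CompactSpace X]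
    (hq : ∀ j, c.π.app j ≫ t.app j = q) (hP : IsPullback p g f q) [Flat g] :
    ∃ j, Flat (pullback.snd f (t.app j)) := by
  refine exists_of_affine @Flat (fun a b ha hb => ?_) hc hq hP inferInstance ?_
  · have := ha
    have := hb
    infer_instance
  · intro S' X' _ _ D' t' _ f' _ c' q' P' p' g' hc' hq' hP' hg'
    have : Flat g' := hg'
    exact exists_flat_of_isAffine hc' hq' hP'

end Groth.Agent.Descend19
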