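import Groth.Agent.Lib.Descend.Stage
import Groth.Agent.Lib.LimH13.DescendFP
import Groth.Agent.S0591

/-!
# Descent of finite covering families along limits
-/

universe u

set_option backward.isDefEq.respectTransparency false
set_option backward.defeqAttrib.useBackward true
set_option linter.style.haveILetI false

open CategoryTheory CategoryTheory.Limits AlgebraicGeometry

namespace Groth.Agent.Descend19

open Groth.Agent.Descend

/-- A property of morphisms of finite presentation descends along limits with affine transition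
morphisms. -/
def DescendsLim (Pr : MorphismProperty Scheme.{u}) : Prop :=
  ∀ {J : Type u} [SmallCategory J] [IsCofiltered J] {S X : Scheme.{u}} {E : J ⥤ Scheme.{u}}
    {t : E ⟶ (Functor.const J).obj S} [∀ j, IsAffineHom (t.app j)] [CompactSpace S]
    [QuasiSeparatedSpace S] {f : X ⟶ S} [LocallyOfFinitePresentation f] [QuasiCompact f]
    [QuasiSeparated f] {e : Cone E} {q : e.pt ⟶ S} {P : Scheme.{u}} {p : P ⟶ X} {g : P ⟶ e.pt},
    IsLimit e → (∀ j, e.π.app j ≫ t.app j = q) → IsPullback p g f q → Pr g →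
      ∃ j, Pr (pullback.snd f (t.app j))

variable {I : Type u} [SmallCategory I] [IsCofiltered I] {D : I ⥤ Scheme.{u}} {c : Cone D}
  [∀ (i j : I) (t : i ⟶ j), IsAffineHom (D.map t)]

theorem exists_cover_of_compactSpace {Pr : MorphismProperty Scheme.{u}}
    [Pr.IsStableUnderBaseChange] (desc : DescendsLim Pr) (hc : IsLimit c)
    [∀ i, CompactSpace (D.obj i)] [∀ i, QuasiSeparatedSpace (D.obj i)]
    {ι : Type u} (U : ι → Scheme.{u}) (u : ∀ a, U a ⟶ c.pt)
    [∀ a, LocallyOfFinitePresentation (u a)] [∀ a, QuasiCompact (u a)] [∀ a, QuasiSeparated (u a)]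
    (hPr : ∀ a, Pr (u a)) (hopen : ∀ a, IsOpen (Set.range (u a)))
    (hcov : ∀ x : c.pt, ∃ (a : ι) (y : U a), u a y = x) :
    ∃ (i : I) (n : ℕ) (V : Fin n → Scheme.{u}) (v : ∀ j, V j ⟶ D.obj i) (a : Fin n → ι)
      (e : ∀ j, U (a j) ⟶ V j),
      (∀ j, Pr (v j) ∧ LocallyOfFinitePresentation (v j) ∧ QuasiCompact (v j) ∧
        QuasiSeparated (v j)) ∧
      (∀ x : D.obj i, ∃ (j : Fin n) (y : V j), v j y = x) ∧
      ∀ j, IsPullback (e j) (u (a j)) (v j) (c.π.app i) := by
  classical
  haveI : ∀ {i j : I} (a : i ⟶ j), IsAffineHom (D.map a) := fun a => inferInstance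
  obtain ⟨i₀⟩ := IsCofiltered.nonempty (C := I)
  haveI := isAffineHom_π_app D c hc i₀
  haveI : CompactSpace ↥c.pt := QuasiCompact.compactSpace_of_compactSpace (c.π.app i₀)
  obtain ⟨s, hs⟩ := isCompact_univ.elim_finite_subcover (fun a => Set.range (u a)) hopen (fun x _ => by
    obtain ⟨a, y, hy⟩ := hcov x
    exact Set.mem_iUnion.2 ⟨a, y, hy⟩)
  let A : Fin s.card → ι := fun j => s.equivFin.symm j
  have hA : ∀ x : c.pt, ∃ (j : Fin s.card) (y : U (A j)), u (A j) y = x := by
    intro x
    obtain ⟨a, ha, y, hy⟩ := Set.mem_iUnion₂.1 (hs (Set.mem_univ x))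
    have h : A (s.equivFin ⟨a, ha⟩) = a := by simp [A]
    refine ⟨s.equivFin ⟨a, ha⟩, ?_⟩
    rw [h]
    exact ⟨y, hy⟩
  have hmod : ∀ j, _ := fun j => Groth.Agent.S0591.result D c hc (U (A j)) (u (A j))
  choose m M w g hw1 hw2 hw3 hw using hmod
  obtain ⟨k, hk⟩ := IsCofiltered.inf_objs_exists (Finset.univ.image m)
  let φ : ∀ j, k ⟶ m j := fun j => (hk (Finset.mem_image_of_mem m (Finset.mem_univ j))).some
  choose g' hg'1 hg' using fun j => LimH13.isPullback_map_stage (φ j) (hw j)
  let v : ∀ j, pullback (w j) (D.map (φ j)) ⟶ D.obj k := fun j => pullback.snd (w j) (D.map (φ j))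
  haveI : ∀ j, LocallyOfFinitePresentation (v j) := fun j => by
    haveI := hw1 j; exact MorphismProperty.pullback_snd _ _ inferInstance
  haveI : ∀ j, QuasiCompact (v j) := fun j => by
    haveI := hw2 j; exact MorphismProperty.pullback_snd _ _ inferInstance
  haveI : ∀ j, QuasiSeparated (v j) := fun j => by
    haveI := hw3 j; exact MorphismProperty.pullback_snd _ _ inferInstance
  have hq : ∀ l : Over k, (c.whisker (Over.forget k)).π.app l ≫ (overT D k).app l = c.π.app k :=
    fun l => c.w l.hom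
  have hck : IsLimit (c.whisker (Over.forget k)) :=
    (Functor.Initial.isLimitWhiskerEquiv (Over.forget k) c).symm hc
  choose l hl using fun j => desc (t := overT D k) (f := v j) hck hq (hg' j) (hPr (A j))
  have hcons : Topology.IsConstructible (⋃ j ∈ (Finset.univ : Finset (Fin s.card)), Set.range (v j)) :=
    Topology.IsConstructible.biUnion (Finset.univ : Finset (Fin s.card)).finite_toSet fun j _ => by
      haveI : CompactSpace ↥(pullback (w j) (D.map (φ j))) :=
        QuasiCompact.compactSpace_of_compactSpace (v j)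
      rw [← Set.image_univ]
      exact ((v j).isLocallyConstructible_image
        Topology.IsLocallyConstructible.univ).isConstructible
  obtain ⟨m₀, a₀, ha₀⟩ := exists_preimage_eq_univ_of_isConstructible hc _ hcons (by
    refine Set.eq_univ_of_forall fun x => ?_
    obtain ⟨j, y, rfl⟩ := hA x
    refine Set.mem_iUnion₂.2 ⟨j, Finset.mem_univ j, g' j y, ?_⟩
    exact congrArg (fun f : U (A j) ⟶ D.obj k => f y) (hg' j).w)
  obtain ⟨L, hL⟩ := IsCofiltered.inf_objs_exists (insert (Over.mk a₀) (Finset.univ.image l))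
  let b : ∀ j, L ⟶ l j := fun j =>
    (hL (Finset.mem_insert_of_mem (Finset.mem_image_of_mem l (Finset.mem_univ j)))).some
  let b₀ : L ⟶ Over.mk a₀ := (hL (Finset.mem_insert_self _ _)).some
  choose e he1 he using fun j => LimH13.isPullback_map_stage (c := c) L.hom (hg' j)
  refine ⟨L.left, s.card, fun j => pullback (v j) (D.map L.hom),
    fun j => pullback.snd (v j) (D.map L.hom), A, e, fun j => ⟨?_, ?_, ?_, ?_⟩, fun x => ?_, he⟩
  · exact MorphismProperty.of_isPullback
      (pbMap_isPullback (Over.forget k ⋙ D) (overT D k) (v j) (b j)) (hl j)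
  · exact MorphismProperty.pullback_snd _ _ inferInstance
  · exact MorphismProperty.pullback_snd _ _ inferInstance
  · exact MorphismProperty.pullback_snd _ _ inferInstance
  · have hx : D.map a₀ (D.map b₀.left x) ∈ ⋃ j ∈ (Finset.univ : Finset (Fin s.card)), Set.range (v j) := by
      rw [← Set.mem_preimage, ha₀]; trivial
    obtain ⟨j, -, y, hy⟩ := Set.mem_iUnion₂.1 hx
    have hy' : v j y = D.map L.hom x := by
      rw [hy]
      have h : D.map b₀.left ≫ D.map a₀ = D.map L.hom :=
        (D.map_comp _ _).symm.trans (congrArg D.map (Over.w b₀))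
      exact congrArg (fun f : D.obj L.left ⟶ D.obj k => f x) h
    obtain ⟨z, -, hz⟩ := Scheme.exists_preimage_of_isPullback
      (IsPullback.of_hasPullback (v j) (D.map L.hom)) y x hy'
    exact ⟨j, z, hz⟩

theorem exists_cover {Pr : MorphismProperty Scheme.{u}} [Pr.IsStableUnderBaseChange]
    (desc : DescendsLim Pr) (hc : IsLimit c) (i₀ : I) [CompactSpace (D.obj i₀)]
    [QuasiSeparatedSpace (D.obj i₀)] {ι : Type u} (U : ι → Scheme.{u}) (u : ∀ a, U a ⟶ c.pt)
    [∀ a, LocallyOfFinitePresentation (u a)] [∀ a, QuasiCompact (u a)] [∀ a, QuasiSeparated (u a)]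
    (hPr : ∀ a, Pr (u a)) (hopen : ∀ a, IsOpen (Set.range (u a)))
    (hcov : ∀ x : c.pt, ∃ (a : ι) (y : U a), u a y = x) :
    ∃ (i : I) (n : ℕ) (V : Fin n → Scheme.{u}) (v : ∀ j, V j ⟶ D.obj i) (a : Fin n → ι)
      (e : ∀ j, U (a j) ⟶ V j),
      (∀ j, Pr (v j) ∧ LocallyOfFinitePresentation (v j) ∧ QuasiCompact (v j) ∧
        QuasiSeparated (v j)) ∧
      (∀ x : D.obj i, ∃ (j : Fin n) (y : V j), v j y = x) ∧
      ∀ j, IsPullback (e j) (u (a j)) (v j) (c.π.app i) := by
  haveI : ∀ k : Over i₀, CompactSpace ((Over.forget i₀ ⋙ D).obj k) := fun k =>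
    compactSpace_stage (D.map k.hom)
  haveI : ∀ k : Over i₀, QuasiSeparatedSpace ((Over.forget i₀ ⋙ D).obj k) := fun k =>
    quasiSeparatedSpace_stage (D.map k.hom)
  haveI : ∀ (i j : Over i₀) (t : i ⟶ j), IsAffineHom ((Over.forget i₀ ⋙ D).map t) :=
    fun i j t => ‹∀ (i j : I) (t : i ⟶ j), IsAffineHom (D.map t)› _ _ _
  obtain ⟨k, n, V, v, a, e, h1, h2, h3⟩ := exists_cover_of_compactSpace (D := Over.forget i₀ ⋙ D)
    (c := c.whisker (Over.forget i₀)) desc
    ((Functor.Initial.isLimitWhiskerEquiv (Over.forget i₀) c).symm hc) U u hPr hopen hcov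
  exact ⟨k.left, n, V, v, a, e, h1, h2, h3⟩

end Groth.Agent.Descend19
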