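import Mathlib.AlgebraicGeometry.AffineTransitionLimit
import Mathlib.AlgebraicGeometry.Morphisms.SchemeTheoreticallyDominant
import Mathlib.AlgebraicGeometry.Morphisms.ClosedImmersion

/-!
# Morphisms from limits with scheme-theoretically dominant transitions to schemes of finite type
-/

universe u

open CategoryTheory CategoryTheory.Limits AlgebraicGeometry TopologicalSpace

set_option linter.style.haveILetI false

namespace Groth.Agent.Descend19

variable {I : Type u} [SmallCategory I] [IsCofiltered I] {S X : Scheme.{u}} (D : I ⥤ Scheme.{u})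
  (t : D ⟶ (Functor.const I).obj S) (f : X ⟶ S) (c : Cone D) (hc : IsLimit c)
  [∀ {i j} (f : i ⟶ j), IsAffineHom (D.map f)]

include hc in
/-- The projections from a limit with scheme-theoretically dominant transition morphisms are
scheme-theoretically dominant. -/
theorem dominant_π [∀ {i j} (f : i ⟶ j), IsSchemeTheoreticallyDominant (D.map f)] (i : I) :
    IsSchemeTheoreticallyDominant (c.π.app i) := by
  haveI := isAffineHom_π_app D c hc i
  constructor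
  refine Scheme.IdealSheafData.ext (funext fun U ↦ ?_)
  rw [Scheme.Hom.ker_apply, Scheme.IdealSheafData.ideal_bot, Pi.bot_apply, eq_bot_iff]
  intro s hs
  obtain ⟨j, a, ha⟩ := exists_app_map_eq_zero_of_isLimit D c hc U.2.isCompact s hs
  exact (D.map a).app_injective U.1 (ha.trans (map_zero _).symm)

include hc in
theorem dominant_opensCone [∀ {i j} (f : i ⟶ j), IsSchemeTheoreticallyDominant (D.map f)] (i : I)
    (U : (D.obj i).Opens) (j : Over i) :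
    IsSchemeTheoreticallyDominant ((opensCone D c i U).π.app j) := by
  haveI := isAffineHom_π_app D c hc j.left
  haveI := dominant_π D c hc j.left
  have h : c.π.app i ⁻¹ᵁ U = c.π.app j.left ⁻¹ᵁ D.map j.hom ⁻¹ᵁ U := by
    rw [← Scheme.Hom.comp_preimage, c.w]
  haveI : IsSchemeTheoreticallyDominant (c.π.app j.left ∣_ (D.map j.hom ⁻¹ᵁ U)) :=
    .of_isPullback (isPullback_morphismRestrict (c.π.app j.left) (D.map j.hom ⁻¹ᵁ U)).flip
  have hle : c.π.app i ⁻¹ᵁ U ≤ c.π.app j.left ⁻¹ᵁ D.map j.hom ⁻¹ᵁ U := h.le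
  have e : (c.π.app j.left).resLE (D.map j.hom ⁻¹ᵁ U) (c.π.app i ⁻¹ᵁ U) hle =
      (c.pt.isoOfEq h).hom ≫ c.π.app j.left ∣_ (D.map j.hom ⁻¹ᵁ U) := by
    rw [← cancel_mono (D.map j.hom ⁻¹ᵁ U).ι]
    simp
  have h2 : IsSchemeTheoreticallyDominant
      ((c.π.app j.left).resLE (D.map j.hom ⁻¹ᵁ U) (c.π.app i ⁻¹ᵁ U) hle) := by
    rw [e]; infer_instance
  exact h2

include hc in
/-- The affine case. -/
theorem exists_π_app_comp_eq_of_isAffine [LocallyOfFiniteType f] [IsAffine S] [IsAffine X]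
    [∀ i, IsAffine (D.obj i)] [∀ i, IsSchemeTheoreticallyDominant (c.π.app i)]
    (a : c.pt ⟶ X) (ha : c.π ≫ t = (Functor.const _).map (a ≫ f)) :
    ∃ (i : I) (g : D.obj i ⟶ X), c.π.app i ≫ g = a ∧ g ≫ f = t.app i := by
  obtain ⟨A, f₂, ι, hι, hlfp, hιf⟩ : ∃ (A : Scheme.{u}) (f₂ : A ⟶ S) (ι : X ⟶ A),
      IsClosedImmersion ι ∧ LocallyOfFinitePresentation f₂ ∧ ι ≫ f₂ = f := by
    have hft : f.appTop.hom.FiniteType :=
      (HasRingHomProperty.iff_of_isAffine (P := @LocallyOfFiniteType)).1 inferInstance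
    algebraize [f.appTop.hom]
    obtain ⟨n, φ, hφ⟩ := Algebra.FiniteType.iff_quotient_mvPolynomial''.1
      (inferInstance : Algebra.FiniteType Γ(S, ⊤) Γ(X, ⊤))
    refine ⟨Spec (.of (MvPolynomial (Fin n) Γ(S, ⊤))),
      Spec.map (CommRingCat.ofHom (algebraMap Γ(S, ⊤) (MvPolynomial (Fin n) Γ(S, ⊤)))) ≫ S.isoSpec.inv,
      X.isoSpec.hom ≫ Spec.map (CommRingCat.ofHom φ.toRingHom), ?_, ?_, ?_⟩
    · haveI := IsClosedImmersion.spec_of_surjective (CommRingCat.ofHom φ.toRingHom) hφ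
      infer_instance
    · haveI : LocallyOfFinitePresentation
          (Spec.map (CommRingCat.ofHom (algebraMap Γ(S, ⊤) (MvPolynomial (Fin n) Γ(S, ⊤))))) :=
        (HasRingHomProperty.Spec_iff (P := @LocallyOfFinitePresentation)).2
          (RingHom.finitePresentation_algebraMap.2 inferInstance)
      infer_instance
    · rw [Category.assoc, ← Spec.map_comp_assoc]
      have h2 : CommRingCat.ofHom (algebraMap Γ(S, ⊤) (MvPolynomial (Fin n) Γ(S, ⊤))) ≫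
          CommRingCat.ofHom φ.toRingHom = f.appTop := by
        ext r
        exact φ.commutes r
      rw [h2, Scheme.isoSpec_hom_naturality_assoc, Iso.hom_inv_id, Category.comp_id]
  haveI := hι
  haveI := hlfp
  obtain ⟨i, g, hg, hg'⟩ := Scheme.exists_π_app_comp_eq_of_locallyOfFinitePresentation D t f₂ c hc
    (a ≫ ι) (by rw [Category.assoc, hιf]; exact ha)
  have hker : ι.ker ≤ g.ker := by
    refine (Scheme.Hom.le_ker_comp a ι).trans ?_
    rw [← hg, Scheme.Hom.ker_comp, (c.π.app i).ker_eq_bot, Scheme.IdealSheafData.map_bot]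
  refine ⟨i, IsClosedImmersion.lift ι g hker, ?_, ?_⟩
  · rw [← cancel_mono ι, Category.assoc, IsClosedImmersion.lift_fac, hg]
  · rw [← hιf, ← Category.assoc, IsClosedImmersion.lift_fac, hg']

set_option backward.defeqAttrib.useBackward true in
set_option backward.isDefEq.respectTransparency false in
include hc in
/-- If the transition morphisms are scheme-theoretically dominant, morphisms from the limit to a
scheme locally of finite type factor through a stage. -/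
theorem exists_π_app_comp_eq_of_dominant [LocallyOfFiniteType f]
    [∀ {i j} (f : i ⟶ j), IsSchemeTheoreticallyDominant (D.map f)]
    [∀ i, CompactSpace (D.obj i)] [∀ i, QuasiSeparatedSpace (D.obj i)]
    (a : c.pt ⟶ X) (ha : c.π ≫ t = (Functor.const _).map (a ≫ f)) :
    ∃ (i : I) (g : D.obj i ⟶ X), c.π.app i ≫ g = a ∧ g ≫ f = t.app i := by
  -- The open cover of `c := lim Dᵢ` indexed by triplets of affine opens `(U, V, W)` with
  -- `U ⊆ c`, `V ⊆ X`, `W ⊆ S` such that `U` maps to `V` maps to `W`.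
  have 𝒰 := (c.pt.isBasis_affineOpens).isOpenCover_mem_and_le
    (((X.isBasis_affineOpens).isOpenCover_mem_and_le
    ((S.isBasis_affineOpens).isOpenCover.comap f.base.hom)).comap a.base.hom)
  -- By qcqs, this cover descends to some finite affine open cover `𝒱` of `Dᵢ`.
  obtain ⟨i, s, 𝒱, h𝒱, h𝒱𝒰⟩ := Scheme.exists_isOpenCover_and_isAffine D c hc _ 𝒰 fun U ↦ U.2.1
  obtain ⟨i', fi'i, hi'⟩ : ∃ (i' : I) (fi'i : i' ⟶ i),
      ∀ j, D.map fi'i ⁻¹ᵁ 𝒱 j ≤ t.app i' ⁻¹ᵁ j.1.1.2.1.2.1 := by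
    choose k fk hk using fun j ↦ AlgebraicGeometry.exists_map_preimage_le_map_preimage D c hc (h𝒱𝒰 j).1.isCompact
      (V := t.app i ⁻¹ᵁ j.1.1.2.1.2.1) (by
      rw [← Scheme.Hom.comp_preimage, ← NatTrans.comp_app, ha]
      exact (h𝒱𝒰 j).2.symm.trans_le (j.1.prop.2.trans (a.preimage_mono j.1.1.2.prop.2)))
    obtain ⟨i', fi'i, fi', hfi'⟩ := IsCofiltered.wideCospan fk
    refine ⟨i', fi'i, fun j ↦ ?_⟩
    rw [← hfi', Functor.map_comp, Scheme.Hom.comp_preimage]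
    refine (Scheme.Hom.preimage_mono _ (hk _)).trans ?_
    simp only [← Scheme.Hom.comp_preimage, t.naturality, Functor.const_obj_obj,
      Functor.const_obj_map, Category.comp_id, le_refl]
  -- Using the affine version `exists_π_app_comp_eq_of_locallyOfFinitePresentation_of_isAffine`,
  -- one can now factor `Dⱼ ⁻¹ 𝒱ⱼ ⟶ lim Dᵢ ⟶ X` through some `Dⱼₖ ⁻¹ 𝒱ⱼ` for each `𝒱ⱼ`,
  -- and by finite-ness we may chose a fixed `k` that works for every `j`.
  have : ∃ k, ∃ (fk : k ⟶ i), ∀ j, ∃ (ak : ↑(D.map fk ⁻¹ᵁ 𝒱 j) ⟶ X),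
      ak ≫ f = Scheme.Opens.ι _ ≫ t.app k ∧ c.π.app _ ∣_ _ ≫ ak = Scheme.Opens.ι _ ≫ a := by
    let 𝒱' := (D.map fi'i ⁻¹ᵁ 𝒱 ·)
    have h𝒱'𝒰 (j : s) : c.π.app i' ⁻¹ᵁ 𝒱' j = j.1.1.1 := by
      rw [← Scheme.Hom.comp_preimage, c.w fi'i]; exact (h𝒱𝒰 j).2.symm
    have _ (j k) : IsAffine ((opensDiagram D i' (𝒱' j)).obj k) := ((h𝒱𝒰 _).1.preimage _).preimage _
    let t𝒱 (j : _) : opensDiagram D i' (𝒱' j) ⟶ (Functor.const (Over i')).obj j.1.1.2.1.2 :=
    { app k := (t.app k.left).resLE _ _ <| by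
        refine (Scheme.Hom.preimage_mono _ (hi' _)).trans ?_
        simp only [Functor.const_obj_obj, ← Scheme.Hom.comp_preimage, t.naturality,
          Functor.const_obj_map, Category.comp_id, le_refl]
      naturality {k₁ k₂} f₁₂ := by simp [Scheme.Hom.resLE_comp_resLE] }
    have (j : s) : IsAffine j.1.1.2.1.1 := j.1.1.2.prop.1
    haveI hdom : ∀ (j : s) (l : Over i'), IsSchemeTheoreticallyDominant ((opensCone D c i' (𝒱' j)).π.app l) :=
      fun j l ↦ dominant_opensCone D c hc i' (𝒱' j) l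
    choose k ak hk hk' using fun j ↦ exists_π_app_comp_eq_of_isAffine
      _ (t𝒱 j) (f.resLE _ _ j.1.1.2.prop.2) _ (isLimitOpensCone D c hc i' (𝒱' j))
      (a.resLE _ _ ((h𝒱'𝒰 _).trans_le j.1.prop.2)) (by
      ext k
      simp [t𝒱, Scheme.Hom.resLE_comp_resLE, show c.π.app k.left ≫ t.app k.left = a ≫ f from
        congr(($ha).app k.left)])
    obtain ⟨i'', fi''i', fi'', hi''⟩ := IsCofiltered.wideCospan fun j ↦ (k j).hom
    refine ⟨i'', fi''i' ≫ fi'i, fun j ↦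
      ⟨Scheme.homOfLE _ ?_ ≫ D.map (fi'' _) ∣_ _ ≫ ak j ≫ Scheme.Opens.ι _, ?_, ?_⟩⟩
    · simp only [← Scheme.Hom.comp_preimage, ← Functor.map_comp, 𝒱', reassoc_of% hi'']; rfl
    · have : ak j ≫ Scheme.Opens.ι _ ≫ f = Scheme.Opens.ι _ ≫ t.app (k j).left := by
        simpa [t𝒱] using! congr($(hk' j) ≫ Scheme.Opens.ι _)
      simp [this]
    · have e : c.π.app i'' ⁻¹ᵁ D.map (fi''i' ≫ fi'i) ⁻¹ᵁ 𝒱 j ≤ c.π.app i' ⁻¹ᵁ 𝒱' j := by
        simp only [← Scheme.Hom.comp_preimage, Cone.w, 𝒱']; rfl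
      simpa [← AlgebraicGeometry.Scheme.Hom.resLE_eq_morphismRestrict,
        Scheme.Hom.resLE_comp_resLE_assoc] using! congr(Scheme.homOfLE _ e ≫ $(hk j) ≫ Scheme.Opens.ι _)
  choose k fki ak hak hak' using this
  -- We may then find an `l` for each `j₁` and `j₂` such that the map `Dⱼ₁ₗ ⁻¹ 𝒱ⱼ₁ ⟶ X` and
  -- `Dⱼ₂ₗ ⁻¹ 𝒱ⱼ₂ ⟶ X` agrees on the intersection in `Dₗ`.
  -- And again by finiteness we may choose a global `l`.
  obtain ⟨l, flk, hl⟩ : ∃ (l : I) (flk : l ⟶ k), ∀ j₁ j₂, Scheme.homOfLE _ inf_le_left ≫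
      D.map flk ∣_ _ ≫ ak j₁ = Scheme.homOfLE _ inf_le_right ≫ D.map flk ∣_ _ ≫ ak j₂ := by
    let 𝒱' := (D.map fki ⁻¹ᵁ 𝒱 ·)
    have (j₁ j₂ : s) : ∃ (l : I) (flk : l ⟶ k), Scheme.homOfLE _ inf_le_left ≫ D.map flk ∣_ _ ≫
        ak j₁ = Scheme.homOfLE _ inf_le_right ≫ D.map flk ∣_ _ ≫ ak j₂ := by
      have _ (x) : CompactSpace ↥((opensDiagram D k (𝒱' j₁ ⊓ 𝒱' j₂)).obj x) :=
        isCompact_iff_compactSpace.mp (QuasiCompact.isCompact_preimage _ (𝒱' j₁ ⊓ 𝒱' j₂).isOpen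
          (((h𝒱𝒰 _).1.preimage _).isCompact.inter_of_isOpen ((h𝒱𝒰 _).1.preimage _).isCompact
            (D.map fki ⁻¹ᵁ 𝒱 j₁).2 (D.map fki ⁻¹ᵁ 𝒱 j₂).2))
      obtain ⟨⟨l, ⟨⟨⟩⟩, flk⟩, ⟨flk', ⟨⟨⟨⟩⟩⟩, h⟩, e⟩ :=
        Scheme.exists_hom_comp_eq_comp_of_locallyOfFiniteType _
          (opensDiagramι .. ≫ (Over.forget k).whiskerLeft t) f _
          (isLimitOpensCone D c hc k (𝒱' j₁ ⊓ 𝒱' j₂)) (i := .mk (𝟙 k))
          (Scheme.homOfLE _ (by simp [𝒱']) ≫ ak j₁) (Scheme.homOfLE _ (by simp [𝒱']) ≫ ak j₂)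
          (by simp [hak]) (by simp [hak]) (by simp; simp [Scheme.Hom.resLE, hak'])
      obtain rfl : flk = flk' := by simpa using! h.symm
      refine ⟨l, flk, by simpa [← Scheme.Hom.resLE_eq_morphismRestrict] using! e⟩
    choose l flk hflk using this
    obtain ⟨l', fl'k, fl'l, hl'⟩ := IsCofiltered.wideCospan (I := s × s) fun x ↦ flk x.1 x.2
    refine ⟨l', fl'k, fun j₁ j₂ ↦ ?_⟩
    have H : (D.map fl'k ≫ D.map fki) ⁻¹ᵁ (𝒱 j₁ ⊓ 𝒱 j₂) ≤
        (D.map (fl'l (j₁, j₂)) ≫ D.map (flk j₁ j₂) ≫ D.map fki) ⁻¹ᵁ (𝒱 j₁ ⊓ 𝒱 j₂) := by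
      simp only [← Functor.map_comp, reassoc_of% hl']; rfl
    simpa [← Scheme.Hom.resLE_eq_morphismRestrict, Scheme.Hom.resLE_comp_resLE_assoc,
      ← Functor.map_comp, hl'] using! congr((D.map (fl'l (j₁, j₂))).resLE _ _ H ≫ $(hflk j₁ j₂))
  -- We may glue the morphisms into `Dₗ ⟶ X` and verify that it indeed satisfies the hypothesis.
  let h𝒲 := (h𝒱.comap (D.map fki).base.hom).comap (D.map flk).base.hom
  let 𝒲 := Scheme.openCoverOfIsOpenCover _ (D.map flk ⁻¹ᵁ D.map fki ⁻¹ᵁ 𝒱 ·) h𝒲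
  let F := 𝒲.glueMorphisms (fun j ↦ D.map flk ∣_ D.map fki ⁻¹ᵁ 𝒱 j ≫ ak j) (fun j₁ j₂ ↦ by
      rw [← cancel_epi (isPullback_opens_inf _ _).isoPullback.hom]
      simpa [𝒲] using! hl j₁ j₂)
  have hF (j : s) : (D.map flk ⁻¹ᵁ D.map fki ⁻¹ᵁ 𝒱 j).ι ≫ F = D.map flk ∣_ _ ≫ ak j :=
    Scheme.Cover.ι_glueMorphisms ..
  refine ⟨l, F, ?_, ?_⟩
  · refine Scheme.Cover.hom_ext (𝒲.pullback₁ (c.π.app l)) _ _ fun j ↦ ?_
    rw [← cancel_epi (isPullback_morphismRestrict _ _).flip.isoPullback.hom]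
    dsimp [𝒲]
    simp only [pullback.condition_assoc, IsPullback.isoPullback_hom_snd_assoc,
      IsPullback.isoPullback_hom_fst_assoc, hF]
    have h : c.π.app l ⁻¹ᵁ D.map flk ⁻¹ᵁ D.map fki ⁻¹ᵁ 𝒱 j ≤ c.π.app k ⁻¹ᵁ D.map fki ⁻¹ᵁ 𝒱 j := by
      simp only [← Scheme.Hom.comp_preimage, c.w_assoc, c.w]; rfl
    simpa [← Scheme.Hom.resLE_eq_morphismRestrict, Scheme.Hom.resLE_comp_resLE_assoc] using!
      congr(Scheme.homOfLE _ h ≫ $(hak' j))
  · refine 𝒲.hom_ext _ _ fun j ↦ ?_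
    simp [F, Scheme.Cover.ι_glueMorphisms_assoc, hak]; rfl

end Groth.Agent.Descend19
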